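import Mathlib
import Groth.Agent.Hensel.Local
import Groth.Agent.AdicLemmas.Basic

/-! Finite algebras over complete Noetherian local rings. -/

set_option autoImplicit false
set_option linter.style.haveILetI false
universe u

namespace FiniteCompleteLib

open IsLocalRing TensorProduct

/-- A finite module over an adically complete Noetherian ring is adically complete. -/
theorem isAdicComplete_of_finite {R : Type u} [CommRing R] [IsNoetherianRing R] (I : Ideal R)
    [IsAdicComplete I R] (M : Type u) [AddCommGroup M] [Module R M] [Module.Finite R M] :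
    IsAdicComplete I M := by
  rw [← AdicCompletion.of_bijective_iff]
  let e : R ≃ₗ[R] AdicCompletion I R := LinearEquiv.ofBijective (AdicCompletion.of I R)
    (AdicCompletion.of_bijective_iff.2 inferInstance)
  let g : M ≃ₗ[R] AdicCompletion I M := (TensorProduct.lid R M).symm.trans
    ((TensorProduct.congr e (LinearEquiv.refl R M)).trans
      ((AdicCompletion.ofTensorProductEquivOfFiniteNoetherian I M).restrictScalars R))
  have hg : ∀ m, g m = AdicCompletion.of I M m := fun m => by
    show AdicCompletion.ofTensorProduct I M (AdicCompletion.of I R 1 ⊗ₜ[R] m) = _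
    rw [AdicCompletion.ofTensorProduct_tmul]
    exact one_smul _ _
  exact (funext hg : ⇑g = ⇑(AdicCompletion.of I M)) ▸ g.bijective

/-- A ring is complete for a nilpotent ideal. -/
theorem isAdicComplete_of_isNilpotent {A : Type u} [CommRing A] (I : Ideal A) (h : IsNilpotent I) :
    IsAdicComplete I A := by
  obtain ⟨k, hk⟩ := h
  have h0 : (I ^ k • ⊤ : Submodule A A) = ⊥ := by
    rw [hk, Submodule.zero_eq_bot, Submodule.bot_smul]
  have hH : IsHausdorff I A := ⟨fun x hx => by have := hx k; rwa [h0, SModEq.bot] at this⟩
  have hP : IsPrecomplete I A := ⟨fun f hf => ⟨f k, fun n => by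
    rcases le_total n k with hn | hn
    · exact hf hn
    · have := hf hn
      rw [h0, SModEq.bot] at this
      rw [this]⟩⟩
  constructor

/-- A local ring finite over a complete Noetherian local ring is complete. -/
theorem isAdicComplete_maximalIdeal (R : Type u) [CommRing R] [IsLocalRing R] [IsNoetherianRing R]
    [IsAdicComplete (maximalIdeal R) R] (T : Type u) [CommRing T] [IsLocalRing T] [Algebra R T]
    [Module.Finite R T] : IsAdicComplete (maximalIdeal T) T := by
  haveI : IsNoetherianRing T := IsNoetherianRing.of_finite R T
  set J := (maximalIdeal R).map (algebraMap R T) with hJ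
  haveI : IsAdicComplete J T := (IsAdicComplete.map_algebraMap_iff (maximalIdeal R) T).2
    (isAdicComplete_of_finite (maximalIdeal R) T)
  haveI : IsArtinianRing (T ⧸ J) := Groth.Agent.Hensel.isArtinianRing_quotient_maximalIdeal R T
  haveI : IsAdicComplete ((maximalIdeal T).map (Ideal.Quotient.mk J)) (T ⧸ J) := by
    apply isAdicComplete_of_isNilpotent
    have hle : (maximalIdeal T).map (Ideal.Quotient.mk J) ≤ Ideal.jacobson ⊥ := by
      refine (Ideal.map_mono (IsLocalRing.jacobson_eq_maximalIdeal ⊥ bot_ne_top).ge).trans ?_
      refine (Ideal.map_le_iff_le_comap).2 (fun x hx => ?_)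
      rw [Ideal.mem_comap, Ideal.mem_jacobson_bot]
      intro y
      obtain ⟨y, rfl⟩ := Ideal.Quotient.mk_surjective y
      have := (Ideal.mem_jacobson_bot.1 hx y).map (Ideal.Quotient.mk J)
      rwa [map_add, map_mul, map_one] at this
    obtain ⟨k, hk⟩ := IsArtinianRing.isNilpotent_jacobson_bot (R := T ⧸ J)
    exact ⟨k, bot_unique ((Ideal.pow_right_mono hle k).trans hk.le)⟩
  exact Groth.Agent.AdicLemmas.isAdicComplete_of_quotient J (maximalIdeal T)

/-- A finite algebra over a complete Noetherian local ring is the product of its localizations at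
maximal ideals, each of which is complete. -/
theorem main (R : Type u) [CommRing R] [IsLocalRing R] [IsNoetherianRing R]
    [IsAdicComplete (maximalIdeal R) R] (S : Type u) [CommRing S] [Algebra R S] [Module.Finite R S] :
    Finite (MaximalSpectrum S) ∧
      Function.Bijective
        (algebraMap S ((m : MaximalSpectrum S) → Localization.AtPrime m.asIdeal)) ∧
      ∀ m : MaximalSpectrum S, IsNoetherianRing (Localization.AtPrime m.asIdeal) ∧
        IsAdicComplete (IsLocalRing.maximalIdeal (Localization.AtPrime m.asIdeal))
          (Localization.AtPrime m.asIdeal) := by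
  haveI := Groth.Agent.Hensel.isArtinianRing_quotient_maximalIdeal R S
  have hs := Groth.Agent.Hensel.surjOn_idempotent (I := maximalIdeal R) S
  obtain ⟨hfin, -⟩ := Groth.Agent.Hensel.exists_separating_of_surjOn _
    (Groth.Agent.Hensel.map_le_jacobson_of_isIntegral
      (IsLocalRing.jacobson_eq_maximalIdeal (⊥ : Ideal R) bot_ne_top).ge) hs
  have hb := Groth.Agent.Hensel.bijective_pi_localization_of_finite R S hs
  refine ⟨hfin, hb, fun m => ?_⟩
  haveI : IsNoetherianRing S := IsNoetherianRing.of_finite R S
  haveI : Module.Finite R (Localization.AtPrime m.asIdeal) := by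
    classical
    refine Module.Finite.of_surjective
      (IsScalarTower.toAlgHom R S (Localization.AtPrime m.asIdeal)).toLinearMap (fun z => ?_)
    obtain ⟨x, hx⟩ := hb.2 (Function.update (0 : (j : MaximalSpectrum S) → Localization.AtPrime j.asIdeal) m z)
    exact ⟨x, (congr_fun hx m).trans (Function.update_self _ _ _)⟩
  exact ⟨IsLocalization.isNoetherianRing m.asIdeal.primeCompl _ inferInstance,
    isAdicComplete_maximalIdeal R _⟩

end FiniteCompleteLib
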